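import Cfsg.Agent.H471.U33.Seven
import Cfsg.Agent.H436.B7
import Cfsg.Agent.H741.Lb.Defs
import Cfsg.Agent.H659.BFC
import Cfsg.Agent.SmallSimple.SylowPrimeCount

/-!
# S4879, row `B`, `p = 7`, piece (i): the centralizers of the elements of order 7 (helper465)

* `card_cent_seven` : one class of elements of order 7: `|C(x)| = 564480`;
* `card_cent_sylow` : `|C(P)| = 196`;
* `relIndex_three` : `|N(P) ∩ C(x) : C(P)| = 3`.
-/

set_option autoImplicit false
set_option linter.style.haveILetI false

namespace Cfsg.Agent.H465.LB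

open Cfsg Subgroup

universe u

section count

variable {G : Type u} [Group G] [Finite G]

/-- (McKay) the number of solutions of `x ^ p = 1` is divisible by `p`. -/
theorem dvd_card_pow (p : ℕ) [hp : Fact p.Prime] (h : p ∣ Nat.card G) : p ∣ Nat.card {x : G // x ^ p = 1} := by
  classical
  obtain ⟨z, hz⟩ := exists_prime_orderOf_dvd_card' p h
  have hzp : z ^ p = 1 := by rw [← hz, pow_orderOf_eq_one]
  have hZp : IsPGroup p (zpowers z) := IsPGroup.of_card (n := 1) (by rw [Nat.card_zpowers, hz, pow_one])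
  have hcj : ∀ g x : G, x ^ p = 1 → (g * x * g⁻¹) ^ p = 1 := fun g x hx => by
    rw [conj_pow, hx, mul_one, mul_inv_cancel]
  let A1 : MulAction (zpowers z) {x : G // x ^ p = 1} :=
    { smul := fun g x => ⟨(g : G) * x * (g : G)⁻¹, hcj g x x.2⟩
      one_smul := fun x => Subtype.ext (by
        show ((1 : zpowers z) : G) * x * ((1 : zpowers z) : G)⁻¹ = x
        rw [Subgroup.coe_one]; group)
      mul_smul := fun g h x => Subtype.ext (by
        show ((g * h : zpowers z) : G) * x * ((g * h : zpowers z) : G)⁻¹ =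
          (g : G) * ((h : G) * x * (h : G)⁻¹) * (g : G)⁻¹
        rw [Subgroup.coe_mul]; group) }
  have h1 := hZp.card_modEq_card_fixedPoints {x : G // x ^ p = 1}
  let A2 : MulAction (zpowers z) {x : G // x ^ p = 1 ∧ z * x = x * z} :=
    { smul := fun g x => ⟨(g : G) * x, by
        obtain ⟨i, hi⟩ := mem_zpowers_iff.1 g.2
        have hc : Commute z (x : G) := x.2.2
        have hg : (g : G) ^ p = 1 := by
          rw [← hi, ← zpow_natCast, ← zpow_mul, mul_comm, zpow_mul, zpow_natCast, hzp, one_zpow]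
        have hgx : Commute (g : G) (x : G) := by rw [← hi]; exact hc.zpow_left i
        refine ⟨by rw [hgx.mul_pow, hg, x.2.1, one_mul], ?_⟩
        have hzg : Commute z (g : G) := by rw [← hi]; exact (Commute.refl z).zpow_right i
        exact (hzg.mul_right hc).eq⟩
      one_smul := fun x => Subtype.ext (by
        show ((1 : zpowers z) : G) * x = x
        rw [Subgroup.coe_one, one_mul])
      mul_smul := fun g h x => Subtype.ext (by
        show ((g * h : zpowers z) : G) * x = (g : G) * ((h : G) * x)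
        rw [Subgroup.coe_mul, mul_assoc]) }
  have h2 := hZp.card_modEq_card_fixedPoints {x : G // x ^ p = 1 ∧ z * x = x * z}
  have h3 : Nat.card (MulAction.fixedPoints (zpowers z) {x : G // x ^ p = 1 ∧ z * x = x * z}) = 0 := by
    rw [Nat.card_eq_zero]
    left
    refine ⟨fun y => ?_⟩
    have h4 := y.2 ⟨z, mem_zpowers z⟩
    have h5 : z * ((y : {x : G // x ^ p = 1 ∧ z * x = x * z}) : G) = ((y : {x : G // x ^ p = 1 ∧ z * x = x * z}) : G) :=
      congrArg Subtype.val h4
    have h6 : z = 1 := mul_eq_right.1 h5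
    rw [h6, orderOf_one] at hz
    exact hp.out.one_lt.ne hz
  have h4 : Nat.card (MulAction.fixedPoints (zpowers z) {x : G // x ^ p = 1}) =
      Nat.card {x : G // x ^ p = 1 ∧ z * x = x * z} := by
    refine Nat.card_congr ⟨fun y => ⟨y.1.1, y.1.2, ?_⟩, fun y => ⟨⟨y.1, y.2.1⟩, fun g => ?_⟩, fun y => rfl, fun y => rfl⟩
    · have h5 : z * (y.1.1) * z⁻¹ = y.1.1 := congrArg Subtype.val (y.2 ⟨z, mem_zpowers z⟩)
      exact mul_inv_eq_iff_eq_mul.1 h5
    · obtain ⟨i, hi⟩ := mem_zpowers_iff.1 g.2
      apply Subtype.ext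
      show (g : G) * y.1 * (g : G)⁻¹ = y.1
      have hc : Commute z (y.1 : G) := y.2.2
      have h5 : Commute (g : G) (y.1) := by rw [← hi]; exact hc.zpow_left i
      rw [h5.eq, mul_inv_cancel_right]
  rw [h4] at h1
  rw [h3] at h2
  exact (Nat.modEq_zero_iff_dvd.1 (h1.trans h2))

/-- one class of elements of order `p`: `p ∣ 1 + |G : C(x)|` -/
theorem dvd_one_add {p : ℕ} [hp : Fact p.Prime] (hC : H741.Lb.OneC p G) {x : G} (hx : orderOf x = p) :
    p ∣ 1 + (centralizer ({x} : Set G)).index := by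
  classical
  have h1 := dvd_card_pow (G := G) p (by rw [← hx]; exact orderOf_dvd_natCard x)
  have h2 : Nat.card {y : G // y ^ p = 1} = 1 + (centralizer ({x} : Set G)).index := by
    rw [← H659.BFC.ncard_conjugatesOf]
    have hx1 : x ≠ 1 := by rintro rfl; rw [orderOf_one] at hx; exact hp.out.one_lt.ne hx
    have h3 : {y : G | y ^ p = 1} = insert 1 (conjugatesOf x) := by
      ext y
      rw [Set.mem_insert_iff]
      show y ^ p = 1 ↔ y = 1 ∨ IsConj x y
      constructor
      · intro hy
        by_cases hy1 : y = 1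
        · exact Or.inl hy1
        · exact Or.inr (hC x y hx1 hy1 ⟨1, by rw [hx, pow_one]⟩ ⟨1, by rw [orderOf_eq_prime hy hy1, pow_one]⟩)
      · rintro (rfl | hy)
        · exact one_pow _
        · obtain ⟨c, rfl⟩ := isConj_iff.1 hy
          rw [conj_pow, ← hx, pow_orderOf_eq_one, mul_one, mul_inv_cancel]
    have h4 : (1 : G) ∉ conjugatesOf x := by
      intro h
      have h' : IsConj x 1 := h
      obtain ⟨c, hc⟩ := isConj_iff.1 h'
      apply hx1
      calc x = c⁻¹ * (c * x * c⁻¹) * c := by group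
        _ = 1 := by rw [hc]; group
    have h5 : Nat.card {y : G // y ^ p = 1} = ({y : G | y ^ p = 1} : Set G).ncard := rfl
    rw [h5, h3, Set.ncard_insert_of_notMem h4 (Set.toFinite _), add_comm]
  rw [h2] at h1
  exact h1

end count

variable {S : Type u} [Group S]

theorem finite_of (h : Spor.IsoB S) : Finite S := by
  obtain ⟨e⟩ := h
  have hfin : Finite BabyM.Inst.M.G := BabyM.Instance.all.finite_G
  exact Finite.of_equiv _ (e.trans Cfsg.Agent.BM.KHAll.iso).symm.toEquiv

theorem card_B (h : Spor.IsoB S) : Nat.card S = 4154781481226426191177580544000000 := by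
  obtain ⟨e⟩ := h
  rw [Nat.card_congr (e.trans Cfsg.Agent.BM.KHAll.iso).toEquiv, BabyM.Instance.all.card_G]

/-- **one class of elements of order 7** -/
theorem card_cent_seven (h : Spor.IsoB S) (hC : H741.Lb.OneC 7 S) {x : S} (hx : orderOf x = 7) :
    Nat.card (centralizer ({x} : Set S)) = 564480 := by
  have := finite_of h
  have hp : Fact (Nat.Prime 7) := ⟨by norm_num⟩
  rcases H471.U33.card_seven h hx with h1 | h1
  · exact h1
  · exfalso
    have h2 := dvd_one_add hC hx
    have h3 := (centralizer ({x} : Set S)).card_mul_index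
    rw [h1, card_B h] at h3
    have h4 : (centralizer ({x} : Set S)).index = 55202772656601113296896000000 := by
      omega
    omega

/-- the transpositions -/
theorem exists_tr (h : Spor.IsoB S) : ∃ s : S, orderOf s = 2 ∧ Nat.card (conjugatesOf s) = 13571955000 := by
  obtain ⟨e⟩ := h
  let e' : S ≃* BabyM.Inst.M.G := e.trans Cfsg.Agent.BM.KHAll.iso
  let t₀ : BabyM.Inst.M.G := ⟨BabyM.Inst.M.t₀, BabyM.Instance.all.C_le_G BabyM.Instance.all.t₀_C⟩
  refine ⟨e'.symm t₀, ?_, ?_⟩
  · rw [MulEquiv.orderOf_eq]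
    refine orderOf_eq_prime ?_ fun h => BabyM.Instance.all.rep.t₀_ne (congrArg Subtype.val h)
    rw [pow_two]
    exact Subtype.ext BabyM.Instance.all.rep.t₀_sq
  · rw [Cfsg.Agent.BM.KH.card_conj_equiv e', e'.apply_symm_apply]
    exact BabyM.Instance.all.card_class BabyM.Instance.tr

theorem card_sylow (h : Spor.IsoB S) (P : Sylow 7 S) : Nat.card P = 49 := by
  have := finite_of h
  have hp : Fact (Nat.Prime 7) := ⟨by norm_num⟩
  obtain ⟨k, hk⟩ := IsPGroup.iff_card.1 P.isPGroup'
  have h1 : Nat.card P * (P : Subgroup S).index = Nat.card S := (P : Subgroup S).card_mul_index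
  have h2 := P.not_dvd_index
  rw [card_B h] at h1
  have h3 : k < 3 := by
    by_contra h3
    have h4 : 7 ^ 3 ∣ Nat.card P := by rw [hk]; exact pow_dvd_pow _ (by omega)
    have h5 := h4.trans (Dvd.intro _ h1)
    norm_num at h5
  rw [hk] at h1 ⊢
  interval_cases k
  · exfalso
    apply h2
    rw [pow_zero, one_mul] at h1
    rw [h1]
    norm_num
  · exfalso
    apply h2
    have h4 : (P : Subgroup S).index = 593540211603775170168225792000000 := by omega
    rw [h4]
    norm_num
  · norm_num

/-- two involutions centralize `P` -/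
theorem card_cent_sylow (h : Spor.IsoB S) (P : Sylow 7 S) : Nat.card (centralizer (P : Set S)) = 196 := by
  classical
  have hfin := finite_of h
  have hp : Fact (Nat.Prime 7) := ⟨by norm_num⟩
  have hP := card_sylow h P
  have hd := H436.B7.card_cent h (P := P) hP
  obtain ⟨s, hs, hX⟩ := exists_tr h
  -- `P` acts on the class of `s`
  let A : MulAction P (conjugatesOf s) :=
    { smul := fun g x => ⟨(g : S) * x * (g : S)⁻¹, by
        have h1 : IsConj s x := x.2
        exact h1.trans (isConj_iff.2 ⟨g, rfl⟩)⟩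
      one_smul := fun x => Subtype.ext (by
        show ((1 : P) : S) * x * ((1 : P) : S)⁻¹ = x
        rw [OneMemClass.coe_one]; group)
      mul_smul := fun g h x => Subtype.ext (by
        show ((g * h : P) : S) * x * ((g * h : P) : S)⁻¹ =
          (g : S) * ((h : S) * x * (h : S)⁻¹) * (g : S)⁻¹
        rw [MulMemClass.coe_mul]; group) }
  have h1 := P.isPGroup'.card_modEq_card_fixedPoints (conjugatesOf s)
  rw [hX] at h1
  have h2 : 2 ≤ Nat.card (MulAction.fixedPoints P (conjugatesOf s)) := by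
    by_contra hcon
    have h3 : Nat.card (MulAction.fixedPoints P (conjugatesOf s)) = 0 ∨
      Nat.card (MulAction.fixedPoints P (conjugatesOf s)) = 1 := by omega
    rcases h3 with h3 | h3 <;> rw [h3] at h1 <;> revert h1 <;> decide
  have : Finite (MulAction.fixedPoints P (conjugatesOf s)) := inferInstance
  have : Nontrivial (MulAction.fixedPoints P (conjugatesOf s)) := by
    rw [← Finite.one_lt_card_iff_nontrivial]
    omega
  obtain ⟨a, b, hab⟩ := exists_pair_ne (MulAction.fixedPoints P (conjugatesOf s))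
  have hfix : ∀ y : MulAction.fixedPoints P (conjugatesOf s), ∀ g ∈ P, g * ((y : conjugatesOf s) : S) =
      ((y : conjugatesOf s) : S) * g := by
    intro y g hg
    have h4 : g * ((y : conjugatesOf s) : S) * g⁻¹ = ((y : conjugatesOf s) : S) := congrArg Subtype.val (y.2 ⟨g, hg⟩)
    exact mul_inv_eq_iff_eq_mul.1 h4
  have htwo : ∀ y : conjugatesOf s, (y : S) * y = 1 := by
    intro y
    have h4 : IsConj s y := y.2
    obtain ⟨c, hc⟩ := isConj_iff.1 h4
    have h5 : s * s = 1 := by rw [← pow_two, ← hs, pow_orderOf_eq_one]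
    rw [← hc]
    calc c * s * c⁻¹ * (c * s * c⁻¹) = c * (s * s) * c⁻¹ := by group
      _ = 1 := by rw [h5]; group
  have hone : ∀ y : conjugatesOf s, (y : S) ≠ 1 := by
    intro y hy
    have h4 : IsConj s y := y.2
    rw [hy] at h4
    obtain ⟨c, hc⟩ := isConj_iff.1 h4
    have h5 : s = 1 := by
      calc s = c⁻¹ * (c * s * c⁻¹) * c := by group
        _ = 1 := by rw [hc]; group
    rw [h5, orderOf_one] at hs
    norm_num at hs
  have hodd : ∀ g ∈ P, g * g = 1 → g = 1 := by
    intro g hg hgg
    have h4 : (⟨g, hg⟩ : P) ^ Nat.card P = 1 := pow_card_eq_one'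
    have h5 : g ^ 49 = 1 := by
      rw [hP] at h4
      exact congrArg Subtype.val h4
    have h6 : g ^ 49 = (g * g) ^ 24 * g := by rw [← pow_two, ← pow_mul, ← pow_succ]
    rw [h5, hgg, one_pow, one_mul] at h6
    exact h6.symm
  have hle : (P : Subgroup S) ≤ centralizer (P : Set S) := by
    have h4 : IsMulCommutative (P : Subgroup S) :=
      IsPGroup.isMulCommutative_of_card_eq_prime_sq (p := 7) (by
        show Nat.card P = _
        rw [hP]; norm_num)
    intro u hu
    rw [mem_centralizer_iff]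
    intro v hv
    exact congrArg Subtype.val (h4.is_comm.comm (⟨v, hv⟩ : (P : Subgroup S)) ⟨u, hu⟩)
  obtain ⟨m, hm⟩ := card_dvd_of_le hle
  have hPc : Nat.card ↥(P : Subgroup S) = 49 := hP
  rw [hPc] at hm
  have hm4 : m ∣ 4 := by
    have hd' : 49 * m ∣ 49 * 4 := by rw [← hm]; exact hd
    exact Nat.dvd_of_mul_dvd_mul_left (by norm_num) hd'
  have hm' : m ≤ 4 := Nat.le_of_dvd (by norm_num) hm4
  have hm2 : ¬ m ≤ 2 := by
    intro hm2
    -- the quotient `C(P) / P` has order at most 2
    let N : Subgroup ↥(centralizer (P : Set S)) := (P : Subgroup S).subgroupOf _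
    have hN : N.Normal := ⟨fun n hn c => by
      have h1 : c * n * c⁻¹ = n := by
        apply Subtype.ext
        show (c : S) * n * (c : S)⁻¹ = n
        rw [(mem_centralizer_iff.1 c.2 n hn).symm, mul_inv_cancel_right]
      rw [h1]
      exact hn⟩
    have hNc : Nat.card N = 49 := by rw [Nat.card_congr (Subgroup.subgroupOfEquivOfLe hle).toEquiv, hPc]
    have hQ : Nat.card (↥(centralizer (P : Set S)) ⧸ N) = m := by
      have h5 := Subgroup.card_eq_card_quotient_mul_card_subgroup N
      rw [hNc, hm, mul_comm] at h5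
      exact (Nat.eq_of_mul_eq_mul_right (by norm_num) h5).symm
    have haC : ((a : conjugatesOf s) : S) ∈ centralizer (P : Set S) := mem_centralizer_iff.2 fun g hg => hfix a g hg
    have hbC : ((b : conjugatesOf s) : S) ∈ centralizer (P : Set S) := mem_centralizer_iff.2 fun g hg => hfix b g hg
    have hnP : ∀ y : conjugatesOf s, (y : S) ∉ P := fun y hy => hone y (hodd _ hy (htwo y))
    -- the images of `a` and `b` coincide
    have himg : (QuotientGroup.mk (⟨_, haC⟩ : ↥(centralizer (P : Set S))) : ↥(centralizer (P : Set S)) ⧸ N) =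
        QuotientGroup.mk ⟨_, hbC⟩ := by
      by_contra hne
      have h5 : ∀ (y : conjugatesOf s) (hy : (y : S) ∈ centralizer (P : Set S)),
          (QuotientGroup.mk (⟨_, hy⟩ : ↥(centralizer (P : Set S))) : ↥(centralizer (P : Set S)) ⧸ N) ≠ 1 := by
        intro y hy h6
        rw [QuotientGroup.eq_one_iff] at h6
        exact hnP y h6
      have h6 : ({1, QuotientGroup.mk ⟨_, haC⟩, QuotientGroup.mk ⟨_, hbC⟩} :
          Finset (↥(centralizer (P : Set S)) ⧸ N)).card = 3 := by
        rw [Finset.card_eq_three]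
        exact ⟨_, _, _, (h5 _ haC).symm, (h5 _ hbC).symm, hne, rfl⟩
      have := Fintype.ofFinite (↥(centralizer (P : Set S)) ⧸ N)
      have h7 := Finset.card_le_univ ({1, QuotientGroup.mk ⟨_, haC⟩, QuotientGroup.mk ⟨_, hbC⟩} :
          Finset (↥(centralizer (P : Set S)) ⧸ N))
      rw [h6, ← Nat.card_eq_fintype_card, hQ] at h7
      omega
    rw [QuotientGroup.eq] at himg
    have h8 : (((a : conjugatesOf s) : S))⁻¹ * ((b : conjugatesOf s) : S) ∈ P := himg
    have h9 : ((a : conjugatesOf s) : S)⁻¹ = ((a : conjugatesOf s) : S) := inv_eq_of_mul_eq_one_left (htwo _)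
    rw [h9] at h8
    have h10 := hfix a _ h8
    have h11 : ((a : conjugatesOf s) : S) * ((b : conjugatesOf s) : S) = 1 := by
      apply hodd _ h8
      have h12 := hfix b _ h8
      calc ((a : conjugatesOf s) : S) * ((b : conjugatesOf s) : S) * (((a : conjugatesOf s) : S) * ((b : conjugatesOf s) : S))
          = ((a : conjugatesOf s) : S) * ((b : conjugatesOf s) : S) * ((a : conjugatesOf s) : S) * ((b : conjugatesOf s) : S) := by group
        _ = ((a : conjugatesOf s) : S) * (((a : conjugatesOf s) : S) * ((b : conjugatesOf s) : S)) * ((b : conjugatesOf s) : S) := by rw [h10]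
        _ = (((a : conjugatesOf s) : S) * ((a : conjugatesOf s) : S)) * (((b : conjugatesOf s) : S) * ((b : conjugatesOf s) : S)) := by group
        _ = 1 := by rw [htwo, htwo, one_mul]
    apply hab
    apply Subtype.ext
    apply Subtype.ext
    calc ((a : conjugatesOf s) : S) = ((a : conjugatesOf s) : S) * (((b : conjugatesOf s) : S) * ((b : conjugatesOf s) : S)) := by
          rw [htwo, mul_one]
      _ = ((a : conjugatesOf s) : S) * ((b : conjugatesOf s) : S) * ((b : conjugatesOf s) : S) := by group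
      _ = _ := by rw [h11, one_mul]
  have hm5 : m = 4 := by
    have : m = 3 ∨ m = 4 := by omega
    rcases this with rfl | rfl
    · norm_num at hm4
    · rfl
  rw [hm, hm5]

/-- `P` elementary abelian of order 49, `x ∈ P`: `|N(P) ∩ C(x) : C(P)| ≤ 6` -/
theorem relIndex_le {G : Type u} [Group G] [Finite G] [Fact (Nat.Prime 7)] (P : Sylow 7 G) (hP : Nat.card P = 49)
    {x : G} (hx : x ∈ P) (hx7 : orderOf x = 7) (hexp : ∀ y ∈ P, y ^ 7 = 1) :
    (centralizer (P : Set G)).relIndex (normalizer (P : Set G) ⊓ centralizer ({x} : Set G)) ≤ 6 := by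
  classical
  have hcomm : ∀ u ∈ P, ∀ v ∈ P, u * v = v * u := by
    have h4 : IsMulCommutative (P : Subgroup G) :=
      IsPGroup.isMulCommutative_of_card_eq_prime_sq (p := 7) (by
        show Nat.card P = _
        rw [hP]; norm_num)
    intro u hu v hv
    exact congrArg Subtype.val (h4.is_comm.comm (⟨u, hu⟩ : (P : Subgroup G)) ⟨v, hv⟩)
  have hPc : Nat.card ↥(P : Subgroup G) = 49 := hP
  have hxle : zpowers x ≤ (P : Subgroup G) := by
    rw [zpowers_le]; exact hx
  have hzx : Nat.card (zpowers x) = 7 := by rw [Nat.card_zpowers, hx7]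
  obtain ⟨y, hyP, hyx⟩ : ∃ y ∈ P, y ∉ zpowers x := by
    by_contra h
    push Not at h
    have h1 := Subgroup.card_dvd_of_le (show (P : Subgroup G) ≤ zpowers x from h)
    rw [hPc, hzx] at h1
    norm_num at h1
  have hgen : ∀ w : G, w * x = x * w → w * y = y * w → w ∈ centralizer (P : Set G) := by
    intro w hwx hwy
    have h1 : zpowers x ≤ (P : Subgroup G) ⊓ centralizer ({w} : Set G) := by
      rw [zpowers_le]
      exact ⟨hx, mem_centralizer_singleton_iff.2 hwx.symm⟩
    have h2 : y ∈ (P : Subgroup G) ⊓ centralizer ({w} : Set G) :=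
      ⟨hyP, mem_centralizer_singleton_iff.2 hwy.symm⟩
    have h3 : Nat.card ↥((P : Subgroup G) ⊓ centralizer ({w} : Set G)) ∣ 49 := by
      rw [← hPc]; exact Subgroup.card_dvd_of_le inf_le_left
    have h4 := Subgroup.card_dvd_of_le h1
    rw [hzx] at h4
    have h5 : Nat.card ↥((P : Subgroup G) ⊓ centralizer ({w} : Set G)) ≠ 7 := by
      intro h5
      have h6 : zpowers x = (P : Subgroup G) ⊓ centralizer ({w} : Set G) :=
        Subgroup.eq_of_le_of_card_ge h1 (by rw [h5, hzx])
      rw [← h6] at h2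
      exact hyx h2
    have h6 : Nat.card ↥((P : Subgroup G) ⊓ centralizer ({w} : Set G)) = 49 := by
      have h7 : (49 : ℕ) = 7 ^ 2 := by norm_num
      rw [h7] at h3
      obtain ⟨k, hk, hk2⟩ := (Nat.dvd_prime_pow (by norm_num : Nat.Prime 7)).1 h3
      rw [hk2] at h4 h5 ⊢
      interval_cases k
      · norm_num at h4
      · norm_num at h5
      · norm_num
    have h7 : (P : Subgroup G) ⊓ centralizer ({w} : Set G) = (P : Subgroup G) :=
      Subgroup.eq_of_le_of_card_ge inf_le_left (by rw [h6, hPc])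
    rw [mem_centralizer_iff]
    intro g hg
    have h8 : g ∈ (P : Subgroup G) ⊓ centralizer ({w} : Set G) := by rw [h7]; exact hg
    exact mem_centralizer_singleton_iff.1 h8.2
  have hle : (P : Subgroup G) ≤ centralizer (P : Set G) := fun u hu =>
    mem_centralizer_iff.2 fun v hv => hcomm v hv u hu
  -- the unipotent elements
  have huni : ∀ g ∈ normalizer (P : Set G) ⊓ centralizer ({x} : Set G), ∀ i : ℤ, g * y * g⁻¹ = y * x ^ i →
      g ∈ centralizer (P : Set G) := by
    intro g hg i hi
    have hgx : Commute g x := mem_centralizer_singleton_iff.1 hg.2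
    have hpow : ∀ n : ℕ, g ^ n * y * (g ^ n)⁻¹ = y * (x ^ i) ^ n := by
      intro n
      induction n with
      | zero => simp
      | succ n ih =>
        have e : g ^ (n + 1) * y * (g ^ (n + 1))⁻¹ = g ^ n * (g * y * g⁻¹) * (g ^ n)⁻¹ := by
          rw [pow_succ]; group
        have h1 : Commute (g ^ n) (x ^ i) := (hgx.pow_left n).zpow_right i
        rw [e, hi]
        calc g ^ n * (y * x ^ i) * (g ^ n)⁻¹ = g ^ n * y * (x ^ i * (g ^ n)⁻¹) := by group
          _ = g ^ n * y * ((g ^ n)⁻¹ * x ^ i) := by rw [h1.inv_left.eq]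
          _ = (g ^ n * y * (g ^ n)⁻¹) * x ^ i := by group
          _ = _ := by rw [ih, pow_succ, mul_assoc]
    have h7 : g ^ 7 ∈ centralizer (P : Set G) := by
      apply hgen
      · exact (hgx.pow_left 7).eq
      · have h1 := hpow 7
        have h2 : (x ^ i) ^ 7 = 1 := hexp _ ((P : Subgroup G).zpow_mem hx i)
        rw [h2, mul_one] at h1
        exact mul_inv_eq_iff_eq_mul.1 h1
    obtain ⟨a, b, hb, ho⟩ := Nat.exists_eq_pow_mul_and_not_dvd (orderOf_pos g).ne' 7 (by norm_num)
    have hgb : g ^ b ∈ centralizer (P : Set G) := by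
      have h1 : IsPGroup 7 (zpowers (g ^ b)) := by
        rw [IsPGroup.iff_card]
        have h2 : orderOf (g ^ b) ∣ 7 ^ a := by
          apply orderOf_dvd_of_pow_eq_one
          rw [← pow_mul, mul_comm, ← ho, pow_orderOf_eq_one]
        obtain ⟨k, -, hk⟩ := (Nat.dvd_prime_pow (by norm_num : Nat.Prime 7)).1 h2
        exact ⟨k, by rw [Nat.card_zpowers, hk]⟩
      have h2 := h1.inf_normalizer_sylow P
      have h3 : g ^ b ∈ zpowers (g ^ b) ⊓ normalizer (P : Set G) :=
        ⟨mem_zpowers _, (normalizer (P : Set G)).pow_mem hg.1 b⟩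
      have h4 : g ^ b ∈ zpowers (g ^ b) ⊓ (P : Subgroup G) := by
        rw [← h2]; exact h3
      exact hle h4.2
    have hcop : IsCoprime (7 : ℤ) (b : ℤ) :=
      (Nat.isCoprime_iff_coprime).2 ((Nat.Prime.coprime_iff_not_dvd (by norm_num)).2 hb)
    obtain ⟨u, v, huv⟩ := hcop
    have h8 : g = (g ^ 7) ^ u * (g ^ b) ^ v := by
      rw [← zpow_natCast g b, ← zpow_natCast g 7, ← zpow_mul, ← zpow_mul, ← zpow_add]
      have h9 : ((7 : ℕ) : ℤ) * u + b * v = 1 := by
        rw [← huv]; push_cast; ring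
      rw [h9, zpow_one]
    rw [h8]
    exact mul_mem ((centralizer (P : Set G)).zpow_mem h7 u) ((centralizer (P : Set G)).zpow_mem hgb v)
  -- the map to the quotient
  set H := normalizer (P : Set G) ⊓ centralizer ({x} : Set G) with hH
  let Z : Subgroup ↥(P : Subgroup G) := (zpowers x).subgroupOf (P : Subgroup G)
  have hZc : Nat.card Z = 7 := by rw [Nat.card_congr (Subgroup.subgroupOfEquivOfLe hxle).toEquiv, hzx]
  have hQ : Nat.card (↥(P : Subgroup G) ⧸ Z) = 7 := by
    have h5 := Subgroup.card_eq_card_quotient_mul_card_subgroup Z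
    rw [hZc, hPc] at h5
    omega
  have hmem : ∀ h : H, (h : G) * y * (h : G)⁻¹ ∈ (P : Subgroup G) := fun h =>
    (mem_normalizer_iff.1 h.2.1 y).1 hyP
  let F : H → ↥(P : Subgroup G) ⧸ Z := fun h => QuotientGroup.mk ⟨_, hmem h⟩
  have hcx : ∀ h : H, Commute (h : G) x := fun h => mem_centralizer_singleton_iff.1 h.2.2
  have hF1 : ∀ h : H, F h ≠ QuotientGroup.mk 1 := by
    intro h h1
    have h2 := QuotientGroup.eq.1 h1.symm
    rw [inv_one, one_mul] at h2
    have h3 : (h : G) * y * (h : G)⁻¹ ∈ zpowers x := h2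
    obtain ⟨i, hi⟩ := mem_zpowers_iff.1 h3
    apply hyx
    rw [mem_zpowers_iff]
    refine ⟨i, ?_⟩
    have h4 : Commute (h : G) (x ^ i) := (hcx h).zpow_right i
    calc x ^ i = (h : G)⁻¹ * ((h : G) * x ^ i) := by group
      _ = (h : G)⁻¹ * (x ^ i * (h : G)) := by rw [h4.eq]
      _ = (h : G)⁻¹ * ((h : G) * y * (h : G)⁻¹ * (h : G)) := by rw [hi]
      _ = y := by group
  have hF2 : ∀ h h' : H, F h = F h' → (h : G)⁻¹ * (h' : G) ∈ centralizer (P : Set G) := by
    intro h h' h1
    have h2 := QuotientGroup.eq.1 h1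
    have h3 : ((h : G) * y * (h : G)⁻¹)⁻¹ * ((h' : G) * y * (h' : G)⁻¹) ∈ zpowers x := h2
    obtain ⟨i, hi⟩ := mem_zpowers_iff.1 h3
    refine huni _ (mul_mem (inv_mem h.2) h'.2) i ?_
    have h4 : (h' : G) * y * (h' : G)⁻¹ = (h : G) * y * (h : G)⁻¹ * x ^ i := by
      rw [hi]; group
    have h5 : Commute (h : G)⁻¹ (x ^ i) := ((hcx h).zpow_right i).inv_left
    calc (h : G)⁻¹ * (h' : G) * y * ((h : G)⁻¹ * (h' : G))⁻¹ = (h : G)⁻¹ * ((h' : G) * y * (h' : G)⁻¹) * (h : G) := by group
      _ = y * ((h : G)⁻¹ * x ^ i) * (h : G) := by rw [h4]; group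
      _ = y * (x ^ i * (h : G)⁻¹) * (h : G) := by rw [h5.eq]
      _ = y * x ^ i := by group
  have hfin : Finite (H ⧸ (centralizer (P : Set G)).subgroupOf H) := inferInstance
  let F' : H ⧸ (centralizer (P : Set G)).subgroupOf H → {q : ↥(P : Subgroup G) ⧸ Z // q ≠ QuotientGroup.mk 1} :=
    fun t => ⟨F t.out, hF1 _⟩
  have hinj : Function.Injective F' := by
    intro t t' htt
    have h1 : F t.out = F t'.out := congrArg Subtype.val htt
    have h2 := hF2 _ _ h1
    rw [← QuotientGroup.out_eq' t, ← QuotientGroup.out_eq' t', QuotientGroup.eq]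
    exact h2
  have h1 := Nat.card_le_card_of_injective F' hinj
  have h2 : Nat.card {q : ↥(P : Subgroup G) ⧸ Z // q ≠ QuotientGroup.mk 1} = 6 := by
    have := Fintype.ofFinite (↥(P : Subgroup G) ⧸ Z)
    rw [Nat.card_eq_fintype_card, Fintype.card_subtype_compl, Fintype.card_subtype_eq, ← Nat.card_eq_fintype_card, hQ]
  rw [h2] at h1
  exact h1

/-- **Piece (i)** -/
theorem relIndex_three (h : Spor.IsoB S) (hC : H741.Lb.OneC 7 S) (P : Sylow 7 S) {x : S} (hx : x ∈ P) (hx1 : x ≠ 1) :
    (centralizer (P : Set S)).relIndex (normalizer (P : Set S) ⊓ centralizer ({x} : Set S)) = 3 := by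
  classical
  have hfin := finite_of h
  have hp : Fact (Nat.Prime 7) := ⟨by norm_num⟩
  have hP := card_sylow h P
  have hCP := card_cent_sylow h P
  have hPc : Nat.card ↥(P : Subgroup S) = 49 := hP
  -- all the elements `≠ 1` of `P` have order 7
  obtain ⟨z, hz⟩ := exists_prime_orderOf_dvd_card' (G := P) 7 (by rw [hP]; norm_num)
  have hz7 : orderOf (z : S) = 7 := (Subgroup.orderOf_coe z).trans hz
  have hord : ∀ y ∈ P, y ≠ 1 → orderOf y = 7 := by
    intro y hy hy1
    have hz1 : (z : S) ≠ 1 := by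
      intro h1
      rw [h1, orderOf_one] at hz7
      norm_num at hz7
    obtain ⟨k, hk⟩ := (IsPGroup.iff_orderOf.1 P.isPGroup') ⟨y, hy⟩
    have h1 := hC (z : S) y hz1 hy1 ⟨1, by rw [hz7, pow_one]⟩ ⟨k, by
      rw [← hk]
      exact (Subgroup.orderOf_mk y hy).symm⟩
    obtain ⟨c, hc⟩ := isConj_iff.1 h1
    rw [← hc]
    have h2 := MulEquiv.orderOf_eq (MulAut.conj c) (z : S)
    rw [MulAut.conj_apply] at h2
    rw [h2, hz7]
  have hexp : ∀ y ∈ P, y ^ 7 = 1 := by
    intro y hy
    by_cases hy1 : y = 1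
    · rw [hy1, one_pow]
    · rw [← hord y hy hy1, pow_orderOf_eq_one]
  have hx7 := hord x hx hx1
  have hcx := card_cent_seven h hC hx7
  have hcomm : ∀ u ∈ P, ∀ v ∈ P, u * v = v * u := by
    have h4 : IsMulCommutative (P : Subgroup S) :=
      IsPGroup.isMulCommutative_of_card_eq_prime_sq (p := 7) (by
        rw [hPc]; norm_num)
    intro u hu v hv
    exact congrArg Subtype.val (h4.is_comm.comm (⟨u, hu⟩ : (P : Subgroup S)) ⟨v, hv⟩)
  have hPK : (P : Subgroup S) ≤ centralizer ({x} : Set S) := fun u hu =>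
    mem_centralizer_singleton_iff.2 (hcomm u hu x hx)
  have hle : centralizer (P : Set S) ≤ normalizer (P : Set S) ⊓ centralizer ({x} : Set S) := by
    refine le_inf (SmallSimple.SylowPrimeCount.centralizer_le_normalizer' (P : Subgroup S)) fun w hw => ?_
    exact mem_centralizer_singleton_iff.2 (mem_centralizer_iff.1 hw x hx).symm
  have h6 := relIndex_le P hP hx hx7 hexp
  set c := (centralizer (P : Set S)).relIndex (normalizer (P : Set S) ⊓ centralizer ({x} : Set S)) with hc
  have h1 : Nat.card ↥(normalizer (P : Set S) ⊓ centralizer ({x} : Set S)) = 196 * c := by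
    rw [← ((centralizer (P : Set S)).subgroupOf (normalizer (P : Set S) ⊓ centralizer ({x} : Set S))).card_mul_index,
      Nat.card_congr (Subgroup.subgroupOfEquivOfLe hle).toEquiv, hCP, hc]
    rfl
  -- Sylow in `C(x)`
  have h2 := card_sylow_modEq_one 7 ↥(centralizer ({x} : Set S))
  rw [(P.subtype hPK).card_eq_index_normalizer] at h2
  have h3 : normalizer ((P.subtype hPK : Subgroup ↥(centralizer ({x} : Set S))) : Set ↥(centralizer ({x} : Set S))) =
      (normalizer (P : Set S)).subgroupOf (centralizer ({x} : Set S)) := by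
    rw [Sylow.coe_subtype]
    exact (subgroupOf_normalizer_eq hPK).symm
  have h4 := ((normalizer (P : Set S)).subgroupOf (centralizer ({x} : Set S))).card_mul_index
  have h5 : Nat.card ↥((normalizer (P : Set S)).subgroupOf (centralizer ({x} : Set S))) = 196 * c := by
    rw [← h1, ← Subgroup.inf_subgroupOf_right]
    exact Nat.card_congr (Subgroup.subgroupOfEquivOfLe inf_le_right).toEquiv
  rw [h5, hcx] at h4
  have h7 : ((normalizer (P : Set S)).subgroupOf (centralizer ({x} : Set S))).index ≡ 1 [MOD 7] := by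
    have h8 : (normalizer ((P.subtype hPK : Subgroup ↥(centralizer ({x} : Set S))) : Set ↥(centralizer ({x} : Set S)))).index ≡
      1 [MOD 7] := h2
    rw [h3] at h8
    exact h8
  set n := ((normalizer (P : Set S)).subgroupOf (centralizer ({x} : Set S))).index with hn
  unfold Nat.ModEq at h7
  have h8 : c * n = 2880 := by
    have h9 : 196 * (c * n) = 196 * 2880 := by rw [← mul_assoc, h4]
    exact Nat.eq_of_mul_eq_mul_left (by norm_num) h9
  interval_cases c <;> omega

end Cfsg.Agent.H465.LB
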