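import Mathlib

/-!
# S4879, the Baby Monster, `p = 7`: the arithmetic (helper465)

`core` : no integral matrix with rows `a`, `(2,0,1) - a`, `r₁, …, r₄` and Gram matrix `(18,12,13; 12,19,13; 13,13,20)`,
if the sum of the entries of `a` is `2` modulo `7`.

`ten_le` : a finite set with integral rows `q x`, Gram matrix `7 (I + 2J)`, five different members with rows `(1,0,0)`,
`± (1,1,0)`, `± (1,1,1)`, `a`, `(2,0,1) - a` has at least ten members.
-/

set_option autoImplicit false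

namespace Cfsg.Agent.H465.LB.Arith

/-- four integers -/
abbrev V4 : Type := ℤ × ℤ × ℤ × ℤ

/-- the inner product -/
def dot (x y : V4) : ℤ := x.1 * y.1 + x.2.1 * y.2.1 + x.2.2.1 * y.2.2.1 + x.2.2.2 * y.2.2.2

/-- small integers -/
def R : List ℤ := [-4, -3, -2, -1, 0, 1, 2, 3, 4]

theorem bd {x N k : ℤ} (h : x * x ≤ N) (hk : N < (k + 1) * (k + 1)) (h0 : 0 ≤ k) : -k ≤ x ∧ x ≤ k := by
  constructor <;> nlinarith

theorem mem_R {x : ℤ} (h : x * x ≤ 24) : x ∈ R := by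
  obtain ⟨h2, h1⟩ := bd (k := 4) h (by norm_num) (by norm_num)
  have h3 : ∀ y : ℤ, -4 ≤ y → y ≤ 4 → y ∈ R := by
    intro y h1 h2
    interval_cases y <;> decide
  exact h3 x h2 h1

/-- the vectors of norm `N` with inner product `D` with `c` -/
def vecs (c : V4) (N D : ℤ) : List V4 :=
  R.flatMap fun x => R.flatMap fun y => R.flatMap fun z =>
    if N < x * x + y * y + z * z then [] else
      (R.filter fun w => decide (x * x + y * y + z * z + w * w = N) && decide (dot c (x, y, z, w) = D)).map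
        fun w => (x, y, z, w)

theorem mem_vecs {c : V4} {N D : ℤ} {x y z w : ℤ} (hx : x ∈ R) (hy : y ∈ R) (hz : z ∈ R) (hw : w ∈ R)
    (hN : x * x + y * y + z * z + w * w = N) (hD : dot c (x, y, z, w) = D) : (x, y, z, w) ∈ vecs c N D := by
  unfold vecs
  refine List.mem_flatMap.2 ⟨x, hx, List.mem_flatMap.2 ⟨y, hy, List.mem_flatMap.2 ⟨z, hz, ?_⟩⟩⟩
  rw [if_neg (by nlinarith [mul_self_nonneg w])]
  refine List.mem_map.2 ⟨w, List.mem_filter.2 ⟨hw, ?_⟩, rfl⟩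
  rw [Bool.and_eq_true, decide_eq_true_iff, decide_eq_true_iff]
  exact ⟨hN, hD⟩

/-- the possible sorted first columns -/
def C0 : List V4 := [(0, 0, 2, 2), (0, 1, 2, 3), (0, 0, 0, 4), (2, 2, 2, 2)]

/-- the test for given `a` -/
def test (a0 a1 a2 : ℤ) : Bool :=
  C0.all fun c =>
    !decide (dot c c = 18 - a0 * a0 - (2 - a0) * (2 - a0)) ||
      (vecs c (19 - 2 * (a1 * a1)) (12 - 2 * (a0 * a1) + 2 * a1)).all fun d =>
        (vecs c (20 - a2 * a2 - (1 - a2) * (1 - a2)) (13 - a0 * a2 - (2 - a0) * (1 - a2))).all fun e =>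
          !decide (dot d e = 13 - 2 * (a1 * a2) + a1)

/-- all tests -/
def chk : Bool :=
  [-1, 0, 1, 2, 3].all fun a0 => [-3, -2, -1, 0, 1, 2, 3].all fun a1 => [-2, -1, 0, 1, 2, 3].all fun a2 =>
    !decide ((a0 + a1 + a2) % 7 = 2) || test a0 a1 a2

set_option maxRecDepth 100000 in
theorem chk_true : chk = true := by decide +kernel

theorem sorted {w : Fin 4 → ℤ} (h0 : 0 ≤ w 0) (h01 : w 0 ≤ w 1) (h12 : w 1 ≤ w 2) (h23 : w 2 ≤ w 3)
    (hN : w 0 * w 0 + w 1 * w 1 + w 2 * w 2 + w 3 * w 3 = 8 ∨ w 0 * w 0 + w 1 * w 1 + w 2 * w 2 + w 3 * w 3 = 14 ∨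
      w 0 * w 0 + w 1 * w 1 + w 2 * w 2 + w 3 * w 3 = 16) : (w 0, w 1, w 2, w 3) ∈ C0 := by
  have h3 : w 3 ≤ 4 := by
    have h4 : w 3 * w 3 ≤ 16 := by
      have e0 := mul_self_nonneg (w 0)
      have e1 := mul_self_nonneg (w 1)
      have e2 := mul_self_nonneg (w 2)
      rcases hN with h | h | h <;> omega
    nlinarith
  generalize w 0 = x at *
  generalize w 1 = y at *
  generalize w 2 = z at *
  generalize w 3 = t at *
  have ht : 0 ≤ t := by omega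
  have hz : 0 ≤ z := by omega
  have hy : 0 ≤ y := by omega
  interval_cases t <;> interval_cases z <;> interval_cases y <;> interval_cases x <;> revert hN <;> decide

theorem core_sorted {a : Fin 3 → ℤ} {r : Fin 4 → Fin 3 → ℤ} (h0 : ∀ i, 0 ≤ r i 0) (hm : Monotone fun i => r i 0)
    (h00 : a 0 * a 0 + (2 - a 0) * (2 - a 0) + ∑ i, r i 0 * r i 0 = 18)
    (h11 : 2 * (a 1 * a 1) + ∑ i, r i 1 * r i 1 = 19)
    (h22 : a 2 * a 2 + (1 - a 2) * (1 - a 2) + ∑ i, r i 2 * r i 2 = 20)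
    (h01 : 2 * (a 0 * a 1) - 2 * a 1 + ∑ i, r i 0 * r i 1 = 12)
    (h02 : a 0 * a 2 + (2 - a 0) * (1 - a 2) + ∑ i, r i 0 * r i 2 = 13)
    (h12 : 2 * (a 1 * a 2) - a 1 + ∑ i, r i 1 * r i 2 = 13)
    (hs : (a 0 + a 1 + a 2) % 7 = 2) : False := by
  simp only [Fin.sum_univ_four] at h00 h11 h22 h01 h02 h12
  have s : ∀ i j, 0 ≤ r i j * r i j := fun i j => mul_self_nonneg _
  have e0 : a 0 * a 0 + (2 - a 0) * (2 - a 0) = 2 * ((a 0 - 1) * (a 0 - 1)) + 2 := by ring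
  have e2 : a 2 * a 2 + (1 - a 2) * (1 - a 2) = 2 * (a 2 * a 2 - a 2) + 1 := by ring
  obtain ⟨b0, b0'⟩ := bd (x := a 0 - 1) (N := 8) (k := 2) (by linarith [s 0 0, s 1 0, s 2 0, s 3 0])
    (by norm_num) (by norm_num)
  obtain ⟨b1, b1'⟩ := bd (x := a 1) (N := 9) (k := 3) (by
    have := s 0 1; have := s 1 1; have := s 2 1; have := s 3 1; omega) (by norm_num) (by norm_num)
  obtain ⟨b2, b2'⟩ := bd (x := 2 * a 2 - 1) (N := 39) (k := 6) (by
    have e3 : (2 * a 2 - 1) * (2 * a 2 - 1) = 4 * (a 2 * a 2 - a 2) + 1 := by ring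
    rw [e3]
    linarith [s 0 2, s 1 2, s 2 2, s 3 2]) (by norm_num) (by norm_num)
  have a0l : -1 ≤ a 0 := by omega
  have a0u : a 0 ≤ 3 := by omega
  have a1l : -3 ≤ a 1 := b1
  have a1u : a 1 ≤ 3 := b1'
  have a2l : -2 ≤ a 2 := by omega
  have a2u : a 2 ≤ 3 := by omega
  have q0 : a 0 ∈ ([-1, 0, 1, 2, 3] : List ℤ) := by
    generalize a 0 = x at a0l a0u ⊢
    interval_cases x <;> decide
  have q1 : a 1 ∈ ([-3, -2, -1, 0, 1, 2, 3] : List ℤ) := by
    generalize a 1 = x at a1l a1u ⊢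
    interval_cases x <;> decide
  have q2 : a 2 ∈ ([-2, -1, 0, 1, 2, 3] : List ℤ) := by
    generalize a 2 = x at a2l a2u ⊢
    interval_cases x <;> decide
  have hc := chk_true
  unfold chk at hc
  have h1 := List.all_eq_true.1 (List.all_eq_true.1 (List.all_eq_true.1 hc _ q0) _ q1) _ q2
  rw [Bool.or_eq_true, Bool.not_eq_true', decide_eq_false_iff_not] at h1
  replace h1 := h1.resolve_left (fun h => h hs)
  unfold test at h1
  have hC : (r 0 0, r 1 0, r 2 0, r 3 0) ∈ C0 := by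
    refine sorted (w := fun i => r i 0) (h0 0) (hm (by decide)) (hm (by decide)) (hm (by decide)) ?_
    show r 0 0 * r 0 0 + r 1 0 * r 1 0 + r 2 0 * r 2 0 + r 3 0 * r 3 0 = 8 ∨
      r 0 0 * r 0 0 + r 1 0 * r 1 0 + r 2 0 * r 2 0 + r 3 0 * r 3 0 = 14 ∨
      r 0 0 * r 0 0 + r 1 0 * r 1 0 + r 2 0 * r 2 0 + r 3 0 * r 3 0 = 16
    generalize a 0 = x at a0l a0u h00
    interval_cases x <;> omega
  have h2 := List.all_eq_true.1 h1 _ hC
  rw [Bool.or_eq_true, Bool.not_eq_true', decide_eq_false_iff_not] at h2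
  replace h2 := h2.resolve_left (fun h => h (by unfold dot; linarith))
  have hr : ∀ i j, r i j ∈ R := by
    intro i j
    apply mem_R
    have n0 := mul_self_nonneg (a 0)
    have n1 := mul_self_nonneg (2 - a 0)
    have n2 := mul_self_nonneg (a 1)
    have n3 := mul_self_nonneg (a 2)
    have n4 := mul_self_nonneg (1 - a 2)
    have k0 : r 0 0 * r 0 0 + r 1 0 * r 1 0 + r 2 0 * r 2 0 + r 3 0 * r 3 0 ≤ 24 := by linarith
    have k1 : r 0 1 * r 0 1 + r 1 1 * r 1 1 + r 2 1 * r 2 1 + r 3 1 * r 3 1 ≤ 24 := by linarith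
    have k2 : r 0 2 * r 0 2 + r 1 2 * r 1 2 + r 2 2 * r 2 2 + r 3 2 * r 3 2 ≤ 24 := by linarith
    have key : ∀ j, r 0 j * r 0 j + r 1 j * r 1 j + r 2 j * r 2 j + r 3 j * r 3 j ≤ 24 := by
      intro j
      fin_cases j
      · exact k0
      · exact k1
      · exact k2
    have key := key j
    have m0 := s 0 j
    have m1 := s 1 j
    have m2 := s 2 j
    have m3 := s 3 j
    fin_cases i
    · show r 0 j * r 0 j ≤ 24
      linarith
    · show r 1 j * r 1 j ≤ 24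
      linarith
    · show r 2 j * r 2 j ≤ 24
      linarith
    · show r 3 j * r 3 j ≤ 24
      linarith
  have h3 := List.all_eq_true.1 h2 _ (mem_vecs (hr 0 1) (hr 1 1) (hr 2 1) (hr 3 1) (by linarith)
    (by unfold dot; linarith))
  have h4 := List.all_eq_true.1 h3 _ (mem_vecs (hr 0 2) (hr 1 2) (hr 2 2) (hr 3 2) (by linarith)
    (by unfold dot; linarith))
  rw [Bool.not_eq_true', decide_eq_false_iff_not] at h4
  apply h4
  unfold dot
  linarith

/-- **The search.** -/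
theorem core {a : Fin 3 → ℤ} {r : Fin 4 → Fin 3 → ℤ}
    (h00 : a 0 * a 0 + (2 - a 0) * (2 - a 0) + ∑ i, r i 0 * r i 0 = 18)
    (h11 : 2 * (a 1 * a 1) + ∑ i, r i 1 * r i 1 = 19)
    (h22 : a 2 * a 2 + (1 - a 2) * (1 - a 2) + ∑ i, r i 2 * r i 2 = 20)
    (h01 : 2 * (a 0 * a 1) - 2 * a 1 + ∑ i, r i 0 * r i 1 = 12)
    (h02 : a 0 * a 2 + (2 - a 0) * (1 - a 2) + ∑ i, r i 0 * r i 2 = 13)
    (h12 : 2 * (a 1 * a 2) - a 1 + ∑ i, r i 1 * r i 2 = 13)
    (hs : (a 0 + a 1 + a 2) % 7 = 2) : False := by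
  let ρ : Fin 4 → Fin 3 → ℤ := fun i j => (if r i 0 < 0 then -1 else 1) * r i j
  let σ := Tuple.sort fun i => ρ i 0
  have hρ : ∀ j k, ∑ i, ρ (σ i) j * ρ (σ i) k = ∑ i, r i j * r i k := by
    intro j k
    rw [Equiv.sum_comp σ fun i => ρ i j * ρ i k]
    refine Finset.sum_congr rfl fun i _ => ?_
    show (if r i 0 < 0 then -1 else 1) * r i j * ((if r i 0 < 0 then -1 else 1) * r i k) = _
    split_ifs <;> ring
  refine core_sorted (a := a) (r := fun i => ρ (σ i)) ?_ (Tuple.monotone_sort fun i => ρ i 0) ?_ ?_ ?_ ?_ ?_ ?_ hs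
  · intro i
    show 0 ≤ (if r (σ i) 0 < 0 then -1 else 1) * r (σ i) 0
    split_ifs <;> omega
  · rw [hρ]; exact h00
  · rw [hρ]; exact h11
  · rw [hρ]; exact h22
  · rw [hρ]; exact h01
  · rw [hρ]; exact h02
  · rw [hρ]; exact h12

/-- a finite sum as a sum over four indices -/
theorem exists_four {ι : Type*} (B : Finset ι) (q : ι → Fin 3 → ℤ) (hB : B.card ≤ 4) :
    ∃ r : Fin 4 → Fin 3 → ℤ, ∀ j k, ∑ i, r i j * r i k = ∑ x ∈ B, q x j * q x k := by
  classical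
  obtain ⟨e⟩ : Nonempty (B ↪ Fin 4) := Function.Embedding.nonempty_of_card_le (by simpa using hB)
  refine ⟨Function.extend e (fun x => q x) 0, fun j k => ?_⟩
  symm
  rw [← Finset.sum_coe_sort B]
  refine Fintype.sum_of_injective e e.injective (fun x : B => q x j * q x k)
    (fun i => Function.extend e (fun x : B => q x) 0 i j * Function.extend e (fun x : B => q x) 0 i k) ?_ ?_
  · intro i hi
    have h : Function.extend e (fun x : B => q x) 0 i = 0 := Function.extend_apply' _ _ _ hi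
    rw [h]
    rfl
  · intro x
    rw [e.injective.extend_apply]

/-- **At least ten rows.** -/
theorem ten_le {ι : Type*} (B : Finset ι) (q : ι → Fin 3 → ℤ)
    (gram : ∀ i j, ∑ x ∈ B, q x i * q x j = if i = j then 21 else 14) {x₁ x₂ x₃ x₄ x₅ : ι}
    (m₁ : x₁ ∈ B) (m₂ : x₂ ∈ B) (m₃ : x₃ ∈ B) (m₄ : x₄ ∈ B) (m₅ : x₅ ∈ B)
    (hnd : [x₁, x₂, x₃, x₄, x₅].Nodup)
    (h₁ : q x₁ = ![1, 0, 0]) (h₂ : q x₂ = ![1, 1, 0] ∨ q x₂ = ![-1, -1, 0])
    (h₃ : q x₃ = ![1, 1, 1] ∨ q x₃ = ![-1, -1, -1]) (h₄ : ∀ i, q x₄ i + q x₅ i = (![2, 0, 1] : Fin 3 → ℤ) i)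
    (hs : (q x₄ 0 + q x₄ 1 + q x₄ 2) % 7 = 2) : 10 ≤ B.card := by
  classical
  by_contra hcon
  push Not at hcon
  simp only [List.nodup_cons, List.mem_cons, List.not_mem_nil, or_false, not_or, List.nodup_nil, and_true,
    not_false_eq_true] at hnd
  obtain ⟨⟨n12, n13, n14, n15⟩, ⟨n23, n24, n25⟩, ⟨n34, n35⟩, n45⟩ := hnd
  have e1 : x₂ ∈ B.erase x₁ := Finset.mem_erase.2 ⟨fun h => n12 h.symm, m₂⟩
  have e2 : x₃ ∈ (B.erase x₁).erase x₂ := Finset.mem_erase.2 ⟨fun h => n23 h.symm,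
    Finset.mem_erase.2 ⟨fun h => n13 h.symm, m₃⟩⟩
  have e3 : x₄ ∈ ((B.erase x₁).erase x₂).erase x₃ := Finset.mem_erase.2 ⟨fun h => n34 h.symm,
    Finset.mem_erase.2 ⟨fun h => n24 h.symm, Finset.mem_erase.2 ⟨fun h => n14 h.symm, m₄⟩⟩⟩
  have e4 : x₅ ∈ (((B.erase x₁).erase x₂).erase x₃).erase x₄ := Finset.mem_erase.2 ⟨fun h => n45 h.symm,
    Finset.mem_erase.2 ⟨fun h => n35 h.symm, Finset.mem_erase.2 ⟨fun h => n25 h.symm,
      Finset.mem_erase.2 ⟨fun h => n15 h.symm, m₅⟩⟩⟩⟩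
  set C := ((((B.erase x₁).erase x₂).erase x₃).erase x₄).erase x₅ with hC
  have hc : C.card ≤ 4 := by
    rw [hC, Finset.card_erase_of_mem e4, Finset.card_erase_of_mem e3, Finset.card_erase_of_mem e2,
      Finset.card_erase_of_mem e1, Finset.card_erase_of_mem m₁]
    omega
  obtain ⟨r, hr⟩ := exists_four C q hc
  have hsum : ∀ j k, q x₄ j * q x₄ k + q x₅ j * q x₅ k + ∑ i, r i j * r i k =
      (if j = k then 21 else 14) - q x₁ j * q x₁ k - q x₂ j * q x₂ k - q x₃ j * q x₃ k := by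
    intro j k
    rw [hr, ← gram j k, ← Finset.add_sum_erase _ _ m₁, ← Finset.add_sum_erase _ _ e1, ← Finset.add_sum_erase _ _ e2,
      ← Finset.add_sum_erase _ _ e3, ← Finset.add_sum_erase _ _ e4]
    ring
  have f0 : q x₅ 0 = 2 - q x₄ 0 := by have := h₄ 0; simp at this; linarith
  have f1 : q x₅ 1 = - q x₄ 1 := by have := h₄ 1; simp at this; linarith
  have f2 : q x₅ 2 = 1 - q x₄ 2 := by have := h₄ 2; simp at this; linarith
  have o2 : ∀ j k, q x₂ j * q x₂ k = (![1, 1, 0] : Fin 3 → ℤ) j * (![1, 1, 0] : Fin 3 → ℤ) k := by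
    intro j k
    rcases h₂ with h | h <;> rw [h] <;> fin_cases j <;> fin_cases k <;> rfl
  have o3 : ∀ j k, q x₃ j * q x₃ k = (![1, 1, 1] : Fin 3 → ℤ) j * (![1, 1, 1] : Fin 3 → ℤ) k := by
    intro j k
    rcases h₃ with h | h <;> rw [h] <;> fin_cases j <;> fin_cases k <;> rfl
  refine core (a := q x₄) (r := r) ?_ ?_ ?_ ?_ ?_ ?_ hs
  · have := hsum 0 0
    rw [o2, o3, h₁, f0] at this
    simp at this
    linarith
  · have := hsum 1 1
    rw [o2, o3, h₁, f1] at this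
    simp at this
    linarith
  · have := hsum 2 2
    rw [o2, o3, h₁, f2] at this
    simp at this
    linarith
  · have := hsum 0 1
    rw [o2, o3, h₁, f0, f1] at this
    simp at this
    linarith
  · have := hsum 0 2
    rw [o2, o3, h₁, f0, f2] at this
    simp at this
    linarith
  · have := hsum 1 2
    rw [o2, o3, h₁, f1, f2] at this
    simp at this
    linarith

/-- the same for a finite set and `finsum` (the form of `QMat` with `p = 7`, `c = 3`, `m = 2`) -/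
theorem ten_le' {ι : Type*} {B : Set ι} (hB : B.Finite) (q : ι → Fin 3 → ℤ)
    (gram : ∀ i j, ∑ᶠ x ∈ B, q x i * q x j = if i = j then 21 else 14) {x₁ x₂ x₃ x₄ x₅ : ι}
    (m₁ : x₁ ∈ B) (m₂ : x₂ ∈ B) (m₃ : x₃ ∈ B) (m₄ : x₄ ∈ B) (m₅ : x₅ ∈ B)
    (hnd : [x₁, x₂, x₃, x₄, x₅].Nodup)
    (h₁ : q x₁ = ![1, 0, 0]) (h₂ : q x₂ = ![1, 1, 0] ∨ q x₂ = ![-1, -1, 0])
    (h₃ : q x₃ = ![1, 1, 1] ∨ q x₃ = ![-1, -1, -1]) (h₄ : ∀ i, q x₄ i + q x₅ i = (![2, 0, 1] : Fin 3 → ℤ) i)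
    (hs : (q x₄ 0 + q x₄ 1 + q x₄ 2) % 7 = 2) : 10 ≤ Nat.card B := by
  classical
  rw [Nat.card_coe_set_eq, Set.ncard_eq_toFinset_card B hB]
  refine ten_le hB.toFinset q ?_ ((hB.mem_toFinset).2 m₁) ((hB.mem_toFinset).2 m₂) ((hB.mem_toFinset).2 m₃)
    ((hB.mem_toFinset).2 m₄) ((hB.mem_toFinset).2 m₅) hnd h₁ h₂ h₃ h₄ hs
  intro i j
  rw [← gram i j, finsum_mem_eq_finite_toFinset_sum _ hB]

end Cfsg.Agent.H465.LB.Arith
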